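import Groth.Agent.UnramA.IndEtLift
import Groth.Agent.Etbase.EtaleStalk
import Mathlib.RingTheory.DiscreteValuationRing.Basic
import Mathlib.RingTheory.RegularLocalRing.Defs
import Mathlib.FieldTheory.IsSepClosed

/-!
# The normal form of a uniformizer in a strict henselization of residue characteristic zero
-/

set_option autoImplicit false

universe u

open IsLocalRing

namespace Groth.Agent.Sga7.H111.NormalForm

/-- In a local ring two elements generating the same principal ideal are associated. -/
theorem associated_of_span_eq {A : Type*} [CommRing A] [IsLocalRing A] {x y : A}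
    (h : Ideal.span {x} = Ideal.span {y}) : ∃ u : Aˣ, x = u * y := by
  obtain ⟨a, ha⟩ := Ideal.mem_span_singleton'.mp (h ▸ Ideal.mem_span_singleton_self x)
  obtain ⟨b, hb⟩ := Ideal.mem_span_singleton'.mp (h.symm ▸ Ideal.mem_span_singleton_self y)
  -- ha : a * y = x, hb : b * x = y
  rcases IsLocalRing.isUnit_or_isUnit_one_sub_self a with h1 | h1
  · exact ⟨h1.unit, by simpa using ha.symm⟩
  · rcases IsLocalRing.isUnit_or_isUnit_one_sub_self (a * b) with h2 | h2
    · have h3 : IsUnit a := isUnit_of_mul_isUnit_left h2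
      exact ⟨h3.unit, by simpa using ha.symm⟩
    · have h4 : (1 - a * b) * x = 0 := by
        have : a * b * x = x := by rw [mul_assoc, hb, ha]
        rw [sub_mul, one_mul, this, sub_self]
      have h5 : x = 0 := by
        have := h2.mul_right_eq_zero.mp h4
        exact this
      have h6 : y = 0 := by rw [← hb, h5, mul_zero]
      exact ⟨1, by rw [h5, h6, mul_zero]⟩

/-- Roots of units in a henselian local ring with separably closed residue field. -/
theorem exists_pow_eq {B : Type*} [CommRing B] [HenselianLocalRing B] [IsSepClosed (ResidueField B)]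
    (n : ℕ) (hn : ((n : ℕ) : ResidueField B) ≠ 0) (u : Bˣ) : ∃ w : Bˣ, w ^ n = u := by
  have hn0 : n ≠ 0 := by
    rintro rfl
    exact hn (by simp)
  have : NeZero ((n : ℕ) : ResidueField B) := ⟨hn⟩
  obtain ⟨z, hz⟩ := IsSepClosed.exists_pow_nat_eq (residue B u) n
  obtain ⟨z', rfl⟩ := residue_surjective z
  have hu0 : residue B (u : B) ≠ 0 := (residue_ne_zero_iff_isUnit _).mpr u.isUnit
  have hz0 : residue B z' ≠ 0 := by
    intro h
    rw [h, zero_pow hn0] at hz
    exact hu0 hz.symm
  let f : Polynomial B := Polynomial.X ^ n - Polynomial.C (u : B)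
  have hf : f.Monic := Polynomial.monic_X_pow_sub_C _ hn0
  have h1 : f.eval z' ∈ maximalIdeal B := by
    rw [← residue_eq_zero_iff]
    simp [f, hz]
  have h2 : IsUnit (f.derivative.eval z') := by
    rw [← residue_ne_zero_iff_isUnit]
    simp only [f, Polynomial.derivative_sub, Polynomial.derivative_X_pow, Polynomial.derivative_C,
      sub_zero, Polynomial.eval_mul, Polynomial.eval_pow, Polynomial.eval_X, map_mul, map_pow,
      Polynomial.eval_natCast, map_natCast]
    exact mul_ne_zero hn (pow_ne_zero _ hz0)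
  obtain ⟨w, hw, hwz⟩ := HenselianLocalRing.is_henselian f hf z' h1 h2
  have hw' : w ^ n = u := by
    have : f.eval w = 0 := hw
    simpa [f, sub_eq_zero] using this
  have hwu : IsUnit w := by
    have : IsUnit (w ^ n) := hw' ▸ u.isUnit
    exact (isUnit_pow_iff hn0).mp this
  exact ⟨hwu.unit, Units.ext (by simpa using hw')⟩

theorem normal_form (V : Type u) [CommRing V] [IsDomain V] [IsDiscreteValuationRing V]
    [CharZero (ResidueField V)] (π : V) (hπ : Irreducible π)
    (O Osh : Type u) [CommRing O] [IsRegularLocalRing O] [CommRing Osh] [IsLocalRing Osh]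
    [Algebra V O] [IsLocalHom (algebraMap V O)] [Algebra O Osh] [IsLocalHom (algebraMap O Osh)]
    [Hensel.IsStrictHenselization O Osh] {c d : ℕ} (t : Fin (c + 1) → O) (s : Fin d → O)
    (hts : Ideal.span (Set.range t ∪ Set.range s) = maximalIdeal O)
    (hdim : ringKrullDim O = (c + 1 + d : ℕ)) (m : Fin (c + 1) → ℕ) (hm : ∀ i, 0 < m i)
    (hV : Ideal.map (algebraMap V O) (maximalIdeal V) = Ideal.span {∏ i, t i ^ m i}) :
    IsRegularLocalRing Osh ∧ ∃ (T : Fin (c + 1) → Osh) (S : Fin d → Osh),
      Ideal.span (Set.range T ∪ Set.range S) = maximalIdeal Osh ∧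
      ringKrullDim Osh = (c + 1 + d : ℕ) ∧
      ∏ i, T i ^ m i = algebraMap O Osh (algebraMap V O π) := by
  have h := Groth.Agent.UnramA.IndEtLift.isIndEt_of_isStrictHenselization O Osh
  have := Groth.Agent.UnramA.IndEtLift.flat h
  have := Groth.Agent.UnramA.IndEtLift.isNoetherianRing h
  have hmax := Groth.Agent.UnramA.IndEtLift.map_maximalIdeal h
  have : HenselianLocalRing Osh := Hensel.IsStrictHenselization.henselian O
  have : IsSepClosure (ResidueField O) (ResidueField Osh) := Hensel.IsStrictHenselization.isSepClosure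
  have : IsSepClosed (ResidueField Osh) := IsSepClosure.sep_closed (ResidueField O)
  refine ⟨Groth.Agent.Etbase.EtaleStalk.isRegularLocalRing_iff hmax |>.mpr inferInstance, ?_⟩
  -- the unit
  have h1 : Ideal.span {algebraMap V O π} = Ideal.span {∏ i, t i ^ m i} := by
    rw [← hV, hπ.maximalIdeal_eq, Ideal.map_span, Set.image_singleton]
  obtain ⟨u, hu⟩ := associated_of_span_eq h1
  have hchar : ((m 0 : ℕ) : ResidueField Osh) ≠ 0 := by
    let φ : ResidueField V →+* ResidueField Osh :=
      (ResidueField.map (algebraMap O Osh)).comp (ResidueField.map (algebraMap V O))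
    have h2 : φ ((m 0 : ℕ) : ResidueField V) ≠ 0 := by
      rw [map_ne_zero]
      exact_mod_cast (hm 0).ne'
    rwa [map_natCast] at h2
  obtain ⟨w, hw⟩ := exists_pow_eq (m 0) hchar (Units.map (algebraMap O Osh).toMonoidHom u)
  have hw' : (w : Osh) ^ m 0 = algebraMap O Osh u := by
    have := congrArg Units.val hw
    simpa using this
  let e : Fin (c + 1) → Oshˣ := Function.update 1 0 w
  let T : Fin (c + 1) → Osh := fun i => e i * algebraMap O Osh (t i)
  refine ⟨T, fun i => algebraMap O Osh (s i), ?_, ?_, ?_⟩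
  · rw [← hmax, ← hts, Ideal.map_span, Set.image_union]
    apply le_antisymm
    · rw [Ideal.span_le]
      rintro x (⟨i, rfl⟩ | ⟨i, rfl⟩)
      · exact Ideal.mul_mem_left _ _ (Ideal.subset_span (Or.inl ⟨t i, ⟨i, rfl⟩, rfl⟩))
      · exact Ideal.subset_span (Or.inr ⟨s i, ⟨i, rfl⟩, rfl⟩)
    · rw [Ideal.span_le]
      rintro x (⟨_, ⟨i, rfl⟩, rfl⟩ | ⟨_, ⟨i, rfl⟩, rfl⟩)
      · have h3 : algebraMap O Osh (t i) = ((e i)⁻¹ : Oshˣ) * T i := by simp [T]
        rw [SetLike.mem_coe, h3]
        exact Ideal.mul_mem_left _ _ (Ideal.subset_span (Or.inl ⟨i, rfl⟩))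
      · exact Ideal.subset_span (Or.inr ⟨i, rfl⟩)
  · rw [Groth.Agent.Etbase.EtaleStalk.ringKrullDim_eq hmax, hdim]
  · rw [hu, map_mul, map_prod]
    simp only [map_pow]
    have h4 : ∏ i, T i ^ m i = (∏ i, (e i : Osh) ^ m i) * ∏ i, algebraMap O Osh (t i) ^ m i := by
      rw [← Finset.prod_mul_distrib]
      exact Finset.prod_congr rfl fun i _ => mul_pow _ _ _
    rw [h4]
    congr 1
    rw [Fin.prod_univ_succ]
    have h5 : ∀ i : Fin c, (e i.succ : Osh) ^ m i.succ = 1 := by
      intro i
      simp [e]
    simp only [h5, Finset.prod_const_one, mul_one]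
    simp [e, hw']

end Groth.Agent.Sga7.H111.NormalForm
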